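import Mathlib
import Groth.Prelude.Def_ExtSupp
import Groth.Agent.Lib.Helper2.RestrExact
import Groth.Agent.Lib.Helper13.ModSiteFreeOn

/-!
# Restrictions to a covering pair are jointly faithful and jointly conservative (helper2)
-/

set_option autoImplicit false
universe u

namespace Groth.Agent.Lib.Helper2.ExtExc

open CategoryTheory CategoryTheory.Limits Opposite

variable {C : Type u} [SmallCategory C] {J : GrothendieckTopology C}
  (O : Sheaf J CommRingCat.{u})

lemma restr_map_eq_zero_iff (U : C) {A B : ModSite.Mod O} (φ : A ⟶ B) :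
    (ModSite.restr O U).map φ = 0 ↔
      ∀ ⦃Y : C⦄ (_ : Y ⟶ U) (x : A.val.obj (op Y)), φ.val.app (op Y) x = 0 := by
  constructor
  · intro h Y g x
    exact congrArg (fun ψ : (ModSite.restr O U).obj A ⟶ (ModSite.restr O U).obj B =>
      (ψ.val.app (op (Over.mk g))).hom x) h
  · intro h
    apply (SheafOfModules.toSheaf _).map_injective
    ext Y m
    exact h (unop Y).hom m

/-- joint faithfulness. -/
lemma eq_zero_of_restr (U V : C) (hUV : J.CoversTop (fun b : Bool => cond b U V))
    {A B : ModSite.Mod O} (φ : A ⟶ B)
    (hU : (ModSite.restr O U).map φ = 0) (hV : (ModSite.restr O V).map φ = 0) : φ = 0 := by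
  rw [restr_map_eq_zero_iff] at hU hV
  apply SheafOfModules.hom_ext
  apply PresheafOfModules.hom_ext
  intro X
  apply ModuleCat.hom_ext
  apply LinearMap.ext
  intro a
  refine Groth.Agent.Lib.Helper13.ModSiteFreeOn.eq_of_cover (O := O) B
    (Sieve.ofObjects (fun b : Bool => cond b U V) X.unop) (hUV X.unop) _ _ ?_
  intro Y f hf
  obtain ⟨b, ⟨g⟩⟩ := hf
  have hnat : B.val.map f.op (φ.val.app X a) = φ.val.app (op Y) (A.val.map f.op a) :=
    (PresheafOfModules.naturality_apply φ.val f.op a).symm
  refine hnat.trans ?_
  have h0 : φ.val.app (op Y) (A.val.map f.op a) = 0 := by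
    cases b
    · exact hV g _
    · exact hU g _
  refine h0.trans ?_
  exact (map_zero _).symm

/-- joint conservativity. -/
lemma isIso_of_restr (U V : C) (hUV : J.CoversTop (fun b : Bool => cond b U V))
    {A B : ModSite.Mod O} (φ : A ⟶ B)
    (hU : IsIso ((ModSite.restr O U).map φ)) (hV : IsIso ((ModSite.restr O V).map φ)) :
    IsIso φ := by
  haveI : Mono φ := by
    apply Preadditive.mono_of_kernel_zero
    apply eq_zero_of_restr O U V hUV
    · rw [← cancel_mono ((ModSite.restr O U).map φ), ← Functor.map_comp, kernel.condition,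
        Functor.map_zero, zero_comp]
    · rw [← cancel_mono ((ModSite.restr O V).map φ), ← Functor.map_comp, kernel.condition,
        Functor.map_zero, zero_comp]
  haveI : Epi φ := by
    apply Preadditive.epi_of_cokernel_zero
    apply eq_zero_of_restr O U V hUV
    · rw [← cancel_epi ((ModSite.restr O U).map φ), ← Functor.map_comp, cokernel.condition,
        Functor.map_zero, comp_zero]
    · rw [← cancel_epi ((ModSite.restr O V).map φ), ← Functor.map_comp, cokernel.condition,
        Functor.map_zero, comp_zero]
  exact isIso_of_mono_of_epi φ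

end Groth.Agent.Lib.Helper2.ExtExc
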