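import Mathlib
import Groth.Prelude.Def_ExtSupp
import Groth.Agent.Lib.Helper2.RestrExact
import Groth.Agent.Lib.Helper13.SectOnRestr

/-!
# The explicit right adjoint `j_*` of restriction; subterminal objects (helper2)
-/

set_option autoImplicit false
universe u

namespace Groth.Agent.Lib.Helper2.ExtExc

open CategoryTheory CategoryTheory.Limits Opposite
open Groth.Agent.Lib.Helper13.SectOnRestr

variable {C : Type u} [SmallCategory C] {J : GrothendieckTopology C}
  (O : Sheaf J CommRingCat.{u})

lemma isIso_of_bijective {A B : ModSite.Mod O} (f : A ⟶ B)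
    (h : ∀ X, Function.Bijective (f.val.app X)) : IsIso f := by
  have h1 : IsIso ((SheafOfModules.toSheaf _).map f) := by
    have h2 : IsIso ((sheafToPresheaf _ _).map ((SheafOfModules.toSheaf _).map f)) := by
      apply (config := {allowSynthFailures := true}) NatIso.isIso_of_isIso_app
      intro X
      exact (ConcreteCategory.isIso_iff_bijective _).2 (h X)
    exact isIso_of_reflects_iso _ (sheafToPresheaf _ _)
  exact isIso_of_reflects_iso _ (SheafOfModules.toSheaf _)

variable [HasBinaryProducts C] (V : C)

/-- explicit `j_{V*}`. -/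
noncomputable abbrev jstar : ModSite.Mod (O.over V) ⥤ ModSite.Mod O :=
  SheafOfModules.pushforward.{u} (SheafOfModules.pushforwardOver (R := ModSite.ringSh O) V)

/-- `(-)|_V ⊣ j_{V*}` explicitly. -/
noncomputable def adjStar : ModSite.restr O V ⊣ jstar O V :=
  SheafOfModules.overPushforwardOverAdj.{u} V

omit [SmallCategory C] in
lemma snd_lift_eq_id {C : Type u} [Category.{u} C] [HasBinaryProducts C] (V : C)
    (hV : ∀ X : C, Subsingleton (X ⟶ V)) (Y : Over V) :
    (prod.snd : V ⨯ Y.left ⟶ Y.left) ≫ prod.lift Y.hom (𝟙 Y.left) = 𝟙 (V ⨯ Y.left) := by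
  apply Limits.prod.hom_ext
  · rw [Category.assoc, prod.lift_fst]
    exact (hV _).elim _ _
  · rw [Category.assoc, prod.lift_snd, Category.comp_id, Category.id_comp]

lemma isIso_forgetAdjStar_unit (hV : ∀ X : C, Subsingleton (X ⟶ V)) (Y : Over V) :
    IsIso ((Over.forgetAdjStar V).unit.app Y) := by
  have : IsIso ((Over.forget V).map ((Over.forgetAdjStar V).unit.app Y)) := by
    change IsIso ((Over.forgetAdjStar V).unit.app Y).left
    rw [Over.forgetAdjStar_unit_app_left]
    exact ⟨⟨prod.snd, prod.lift_snd _ _, snd_lift_eq_id V hV Y⟩⟩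
  exact isIso_of_reflects_iso _ (Over.forget V)

lemma isIso_adjStar_counit_app (hV : ∀ X : C, Subsingleton (X ⟶ V))
    (T : ModSite.Mod (O.over V)) : IsIso ((adjStar O V).counit.app T) := by
  apply isIso_of_bijective
  intro Y
  have := isIso_forgetAdjStar_unit V hV Y.unop
  have hb : Function.Bijective
      (T.val.presheaf.map ((Over.forgetAdjStar V).unit.app Y.unop).op) := by
    have : IsIso (T.val.presheaf.map ((Over.forgetAdjStar V).unit.app Y.unop).op) :=
      inferInstance
    exact (ConcreteCategory.isIso_iff_bijective _).1 this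
  exact hb

/-- Lemma S: for `V` subterminal, `j_{V!}` is fully faithful (the unit is an isomorphism). -/
lemma isIso_extZeroAdj_unit (hV : ∀ X : C, Subsingleton (X ⟶ V)) :
    IsIso (ModSite.extZeroAdj O V).unit := by
  let t : Adjunction.Triple (ModSite.extZero O V) (ModSite.restr O V) (jstar O V) :=
    ⟨ModSite.extZeroAdj O V, adjStar O V⟩
  have h : IsIso t.adj₂.counit := by
    have := fun T => isIso_adjStar_counit_app O V hV T
    exact NatIso.isIso_of_isIso_app _
  exact t.isIso_unit_iff_isIso_counit.2 h

/-- (L2') if `T` vanishes on `U × V → V` then `j_{V*} T` vanishes on `U`. -/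
lemma isZero_restr_jstar (U : C) (T : ModSite.Mod (O.over V))
    (h : IsZero ((ModSite.restr (O.over V) (UX U V)).obj T)) :
    IsZero ((ModSite.restr O U).obj ((jstar O V).obj T)) := by
  apply isZero_of_subsingleton
  intro Y
  let c : ((Over.star V).obj Y.unop.left).left ⟶ Y.unop.left :=
    (Over.forgetAdjStar V).counit.app Y.unop.left
  let b : (Over.star V).obj Y.unop.left ⟶ UX U V :=
    Over.homMk (prod.lift (c ≫ Y.unop.hom) ((Over.star V).obj Y.unop.left).hom)
      (prod.lift_snd _ _)
  exact subsingleton_of_isZero ((O.over V).over (UX U V)) _ h (op (Over.mk b))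

/-- a map from the restriction to `V` of an extension by zero from `U` to a module vanishing on
`U × V → V` is zero. -/
lemma hom_restr_extZero_eq_zero (U : C) (B : ModSite.Mod (O.over U)) (T : ModSite.Mod (O.over V))
    (h : IsZero ((ModSite.restr (O.over V) (UX U V)).obj T))
    (t : (ModSite.restr O V).obj ((ModSite.extZero O U).obj B) ⟶ T) : t = 0 := by
  apply ((adjStar O V).homEquiv _ _).injective
  apply ((ModSite.extZeroAdj O U).homEquiv _ _).injective
  exact (isZero_restr_jstar O V U T h).eq_of_tgt _ _

end Groth.Agent.Lib.Helper2.ExtExc
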