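import Mathlib
import Groth.Prelude.Def_ExtSupp
import Groth.Agent.Lib.Helper2.ExtExc.Joint
import Groth.Agent.Lib.Helper2.ExtExc.Star
import Groth.Agent.Lib.Helper13.ExtAdj

/-!
# Excision for Ext with supports on a ringed site (helper2)

For `{U, V}` covering with `V` subterminal: `j_{V!}((M|_V)/(M|_V)_{U×V}) ≅ M/M_U`, hence
`Ext^i_Z(M, N) ≅ Ext^i_Z(V; M|_V, N|_V)`.
-/

set_option autoImplicit false
universe w' w u

namespace Groth.Agent.Lib.Helper2.ExtExc

open CategoryTheory CategoryTheory.Limits Opposite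
open Groth.Agent.Lib.Helper13.SectOnRestr Groth.Agent.Lib.Helper13.ExtAdj
open Groth.Agent.Lib.Helper2.RestrExact

variable {C : Type u} [SmallCategory C] [HasBinaryProducts C] {J : GrothendieckTopology C}
  (O : Sheaf J CommRingCat.{u}) (U V : C) (M : ModSite.Mod O)

/-- `M/M_U` is null on `U` (no `HasPushOver` binder needed). -/
theorem isNullOn_quotOn' {D : Type u} [SmallCategory D] {K : GrothendieckTopology D}
    (O' : Sheaf K CommRingCat.{u}) (W : D) (F : ModSite.Mod O') :
    IsZero ((ModSite.restr O' W).obj ((ModSite.quotOn O' W).obj F)) := by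
  let adj := ModSite.extZeroAdj O' W
  have hsplit : adj.unit.app ((ModSite.restr O' W).obj F) ≫
      (ModSite.restr O' W).map (adj.counit.app F) = 𝟙 _ :=
    adj.right_triangle_components F
  have : Epi ((ModSite.restr O' W).map (adj.counit.app F)) := by
    have : IsSplitEpi ((ModSite.restr O' W).map (adj.counit.app F)) := ⟨⟨⟨_, hsplit⟩⟩⟩
    infer_instance
  exact (isZero_cokernel_of_epi ((ModSite.restr O' W).map (adj.counit.app F))).of_iso
    (PreservesCokernel.iso (ModSite.restr O' W) (adj.counit.app F))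

/-- `M/M_U`. -/
noncomputable abbrev K : ModSite.Mod O := (ModSite.quotOn O U).obj M

/-- `(M|_V)/(M|_V)_{U×V}`. -/
noncomputable abbrev Q : ModSite.Mod (O.over V) :=
  (ModSite.quotOn (O.over V) (UX U V)).obj ((ModSite.restr O V).obj M)

/-- `r_V π_U`. -/
noncomputable abbrev rπ : (ModSite.restr O V).obj M ⟶ (ModSite.restr O V).obj (K O U M) :=
  (ModSite.restr O V).map ((ModSite.quotOnπ O U).app M)

/-- `π_W`. -/
noncomputable abbrev πW : (ModSite.restr O V).obj M ⟶ Q O U V M :=
  (ModSite.quotOnπ (O.over V) (UX U V)).app ((ModSite.restr O V).obj M)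

instance epi_πW : Epi (πW O U V M) := by
  change Epi (cokernel.π _)
  infer_instance

instance epi_rπ : Epi (rπ O U V M) := by
  haveI : Epi ((ModSite.quotOnπ O U).app M) := by
    change Epi (cokernel.π _)
    infer_instance
  exact epi_restr_map O V _

lemma counit_rπ : (ModSite.extZeroAdj (O.over V) (UX U V)).counit.app
    ((ModSite.restr O V).obj M) ≫ rπ O U V M = 0 := by
  refine (ExtSupp.mem_homZ_iff (O := O.over V) (UX U V) (rπ O U V M)).1 ?_
  change (ModSite.restr (O.over V) (UX U V)).map (rπ O U V M) = 0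
  exact (isZero_restr_restr O U V _ (isNullOn_quotOn' O U M)).eq_of_tgt _ _

/-- `(M|_V)/(M|_V)_{U×V} ⟶ (M/M_U)|_V`. -/
noncomputable def φ' : Q O U V M ⟶ (ModSite.restr O V).obj (K O U M) :=
  cokernel.desc _ (rπ O U V M) (counit_rπ O U V M)

lemma πW_φ' : πW O U V M ≫ φ' O U V M = rπ O U V M := cokernel.π_desc _ _ _

lemma rcounit_πW : (ModSite.restr O V).map ((ModSite.extZeroAdj O U).counit.app M) ≫
    πW O U V M = 0 :=
  hom_restr_extZero_eq_zero O V U _ _
    (isNullOn_quotOn' (O.over V) (UX U V) ((ModSite.restr O V).obj M)) _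

/-- `(M/M_U)|_V ⟶ (M|_V)/(M|_V)_{U×V}`. -/
noncomputable def ψ' : (ModSite.restr O V).obj (K O U M) ⟶ Q O U V M :=
  (PreservesCokernel.iso (ModSite.restr O V) ((ModSite.extZeroAdj O U).counit.app M)).hom ≫
    cokernel.desc _ (πW O U V M) (rcounit_πW O U V M)

lemma rπ_ψ' : rπ O U V M ≫ ψ' O U V M = πW O U V M := by
  unfold ψ'
  have h := PreservesCokernel.π_iso_hom (ModSite.restr O V)
    ((ModSite.extZeroAdj O U).counit.app M)
  change (ModSite.restr O V).map (cokernel.π _) ≫ _ ≫ _ = _
  rw [← Category.assoc, h]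
  exact cokernel.π_desc _ _ _

/-- the base change isomorphism for `quotOn`. -/
noncomputable def φ'Iso : Q O U V M ≅ (ModSite.restr O V).obj (K O U M) where
  hom := φ' O U V M
  inv := ψ' O U V M
  hom_inv_id := by
    rw [← cancel_epi (πW O U V M), ← Category.assoc, πW_φ', rπ_ψ', Category.comp_id]
  inv_hom_id := by
    rw [← cancel_epi (rπ O U V M), ← Category.assoc, rπ_ψ', πW_φ', Category.comp_id]

/-- `j_{V!}((M|_V)/(M|_V)_{U×V}) ⟶ M/M_U`. -/
noncomputable def φ : (ModSite.extZero O V).obj (Q O U V M) ⟶ K O U M :=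
  ((ModSite.extZeroAdj O V).homEquiv _ _).symm (φ' O U V M)

lemma unit_restr_φ : (ModSite.extZeroAdj O V).unit.app (Q O U V M) ≫
    (ModSite.restr O V).map (φ O U V M) = φ' O U V M := by
  have h := (ModSite.extZeroAdj O V).homEquiv_unit (X := Q O U V M) (Y := K O U M)
    (f := φ O U V M)
  exact h.symm.trans (Equiv.apply_symm_apply _ _)

theorem isIso_φ (hV : ∀ X : C, Subsingleton (X ⟶ V))
    (hUV : J.CoversTop (fun b : Bool => cond b U V)) : IsIso (φ O U V M) := by
  apply isIso_of_restr O U V hUV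
  · have hs : IsZero ((ModSite.restr O U).obj ((ModSite.extZero O V).obj (Q O U V M))) :=
      isZero_restr_extZero O U V _
        (isNullOn_quotOn' (O.over V) (UX U V) ((ModSite.restr O V).obj M))
    have ht : IsZero ((ModSite.restr O U).obj (K O U M)) := isNullOn_quotOn' O U M
    exact ⟨⟨0, hs.eq_of_src _ _, ht.eq_of_src _ _⟩⟩
  · have h1 : IsIso ((ModSite.extZeroAdj O V).unit.app (Q O U V M)) := by
      have := isIso_extZeroAdj_unit O V hV
      infer_instance
    have h2 : IsIso ((ModSite.extZeroAdj O V).unit.app (Q O U V M) ≫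
        (ModSite.restr O V).map (φ O U V M)) := by
      rw [unit_restr_φ]
      exact (φ'Iso O U V M).isIso_hom
    exact IsIso.of_isIso_comp_left ((ModSite.extZeroAdj O V).unit.app (Q O U V M)) _

theorem nonempty_extZ_equiv [HasExt.{w} (ModSite.Mod O)] [HasExt.{w'} (ModSite.Mod (O.over V))]
    (hV : ∀ X : C, Subsingleton (X ⟶ V))
    (hUV : J.CoversTop (fun b : Bool => cond b U V)) (N : ModSite.Mod O) (i : ℕ) :
    Nonempty (ExtSupp.ExtZ U M N i ≃+
      ExtSupp.ExtZover V (Over.mk (prod.snd : U ⨯ V ⟶ V)) M N i) := by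
  have := isIso_φ O U V M hV hUV
  have : (ModSite.extZero O V).PreservesMonomorphisms := inferInstance
  exact ⟨(extIsoLeft (asIso (φ O U V M)) N i).trans
    (extAdjEquiv' (ModSite.extZeroAdj O V) (Q O U V M) N i)⟩

end Groth.Agent.Lib.Helper2.ExtExc
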